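import Mathlib
import Groth.Prelude

/-!
# The stabilizer of a groupoid in sheaves: conjugation `G ×_{U,t} R ≅ G ×_{U,s} R` over `R` (helper19)

Port to `AlgSp.GroupoidSp` of helper18's scheme-level development (`Helper18/GrpdOm`, `Helper18/GrpdStab`).
-/

set_option autoImplicit false
set_option linter.style.haveILetI false
set_option linter.unusedSectionVars false
set_option maxRecDepth 8000
universe u
open CategoryTheory CategoryTheory.Limits AlgebraicGeometry TopologicalSpace Opposite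

namespace Groth.Agent.Helper19.GpdInv

open AlgSp

variable {S : Scheme.{u}} {B : Sp S} (G : GroupoidSp B)

/-- composition on `T`-points -/
noncomputable def cmp {T : Sp S} (α β : T ⟶ G.R) (h : α ≫ G.s = β ≫ G.t) : T ⟶ G.R :=
  pullback.lift α β h ≫ G.c

theorem cmp_congr {T : Sp S} {α α' β β' : T ⟶ G.R} (h : α ≫ G.s = β ≫ G.t)
    (hα : α = α') (hβ : β = β') :
    cmp G α β h = cmp G α' β' (by rw [← hα, ← hβ]; exact h) := by
  subst hα hβ; rfl

theorem precomp_cmp {T T' : Sp S} (φ : T' ⟶ T) (α β : T ⟶ G.R) (h : α ≫ G.s = β ≫ G.t) :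
    φ ≫ cmp G α β h = cmp G (φ ≫ α) (φ ≫ β)
      (by rw [Category.assoc, Category.assoc, h]) := by
  unfold cmp
  rw [← Category.assoc]
  congr 1
  apply pullback.hom_ext
  · rw [Category.assoc, pullback.lift_fst, pullback.lift_fst]
  · rw [Category.assoc, pullback.lift_snd, pullback.lift_snd]

theorem c_eq : G.c = cmp G (pullback.fst G.s G.t) (pullback.snd G.s G.t) pullback.condition := by
  unfold cmp
  have : pullback.lift (pullback.fst G.s G.t) (pullback.snd G.s G.t) pullback.condition = 𝟙 _ := by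
    apply pullback.hom_ext
    · rw [pullback.lift_fst, Category.id_comp]
    · rw [pullback.lift_snd, Category.id_comp]
  rw [this, Category.id_comp]

theorem cmp_s {T : Sp S} (α β : T ⟶ G.R) (h : α ≫ G.s = β ≫ G.t) :
    cmp G α β h ≫ G.s = β ≫ G.s := G.comp_s α β h

theorem cmp_t {T : Sp S} (α β : T ⟶ G.R) (h : α ≫ G.s = β ≫ G.t) :
    cmp G α β h ≫ G.t = α ≫ G.t := G.comp_t α β h

theorem cmp_assoc {T : Sp S} (α β γ : T ⟶ G.R) (h₁ : α ≫ G.s = β ≫ G.t)
    (h₂ : β ≫ G.s = γ ≫ G.t) :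
    cmp G (cmp G α β h₁) γ ((cmp_s G α β h₁).trans h₂) =
      cmp G α (cmp G β γ h₂) (h₁.trans (cmp_t G β γ h₂).symm) := G.assoc α β γ h₁ h₂

theorem e_cmp {T : Sp S} (α : T ⟶ G.R) :
    cmp G (α ≫ G.t ≫ G.e) α (by rw [Category.assoc, Category.assoc, G.e_s, Category.comp_id]) = α :=
  G.e_comp α

theorem cmp_e {T : Sp S} (α : T ⟶ G.R) :
    cmp G α (α ≫ G.s ≫ G.e) (by rw [Category.assoc, Category.assoc, G.e_t, Category.comp_id]) = α :=
  G.comp_e α

theorem cmp_i {T : Sp S} (α : T ⟶ G.R) :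
    cmp G α (α ≫ G.i) (by rw [Category.assoc, G.i_t]) = α ≫ G.t ≫ G.e := G.comp_i α

theorem i_cmp {T : Sp S} (α : T ⟶ G.R) :
    cmp G (α ≫ G.i) α (by rw [Category.assoc, G.i_s]) = α ≫ G.s ≫ G.e := G.i_comp α

section Cancel

variable {T : Sp S}

/-- `r ∘ (r⁻¹ ∘ x) = x` -/
theorem cancel_L1 (r x : T ⟶ G.R) (hx : (r ≫ G.i) ≫ G.s = x ≫ G.t)
    (h : r ≫ G.s = cmp G (r ≫ G.i) x hx ≫ G.t) :
    cmp G r (cmp G (r ≫ G.i) x hx) h = x := by
  have h₁ : r ≫ G.s = (r ≫ G.i) ≫ G.t := by rw [Category.assoc, G.i_t]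
  have hrt : r ≫ G.t = x ≫ G.t := by rw [← hx, Category.assoc, G.i_s]
  refine (cmp_assoc G r (r ≫ G.i) x h₁ hx).symm.trans ?_
  have h3 : r ≫ G.t ≫ G.e = x ≫ G.t ≫ G.e := by rw [← Category.assoc, hrt, Category.assoc]
  refine (cmp_congr G _ ((cmp_i G r).trans h3) rfl).trans ?_
  exact e_cmp G x

/-- `r⁻¹ ∘ (r ∘ x) = x` -/
theorem cancel_L2 (r x : T ⟶ G.R) (hx : r ≫ G.s = x ≫ G.t)
    (h : (r ≫ G.i) ≫ G.s = cmp G r x hx ≫ G.t) :
    cmp G (r ≫ G.i) (cmp G r x hx) h = x := by
  have h₁ : (r ≫ G.i) ≫ G.s = r ≫ G.t := by rw [Category.assoc, G.i_s]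
  refine (cmp_assoc G (r ≫ G.i) r x h₁ hx).symm.trans ?_
  have h3 : r ≫ G.s ≫ G.e = x ≫ G.t ≫ G.e := by rw [← Category.assoc, hx, Category.assoc]
  refine (cmp_congr G _ ((i_cmp G r).trans h3) rfl).trans ?_
  exact e_cmp G x

/-- `(x ∘ r) ∘ r⁻¹ = x` -/
theorem cancel_R1 (r x : T ⟶ G.R) (hx : x ≫ G.s = r ≫ G.t)
    (h : cmp G x r hx ≫ G.s = (r ≫ G.i) ≫ G.t) :
    cmp G (cmp G x r hx) (r ≫ G.i) h = x := by
  have h₂ : r ≫ G.s = (r ≫ G.i) ≫ G.t := by rw [Category.assoc, G.i_t]
  refine (cmp_assoc G x r (r ≫ G.i) hx h₂).trans ?_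
  have h3 : r ≫ G.t ≫ G.e = x ≫ G.s ≫ G.e := by rw [← Category.assoc, ← hx, Category.assoc]
  refine (cmp_congr G _ rfl ((cmp_i G r).trans h3)).trans ?_
  exact cmp_e G x

/-- `(x ∘ r⁻¹) ∘ r = x` -/
theorem cancel_R2 (r x : T ⟶ G.R) (hx : x ≫ G.s = (r ≫ G.i) ≫ G.t)
    (h : cmp G x (r ≫ G.i) hx ≫ G.s = r ≫ G.t) :
    cmp G (cmp G x (r ≫ G.i) hx) r h = x := by
  have h₂ : (r ≫ G.i) ≫ G.s = r ≫ G.t := by rw [Category.assoc, G.i_s]
  have hxs : x ≫ G.s = r ≫ G.s := by rw [hx, Category.assoc, G.i_t]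
  refine (cmp_assoc G x (r ≫ G.i) r hx h₂).trans ?_
  have h3 : r ≫ G.s ≫ G.e = x ≫ G.s ≫ G.e := by rw [← Category.assoc, ← hxs, Category.assoc]
  refine (cmp_congr G _ rfl ((i_cmp G r).trans h3)).trans ?_
  exact cmp_e G x

end Cancel

/-- the inclusion of the stabilizer into the arrows -/
noncomputable def stabι : G.stabilizer ⟶ G.R := pullback.fst G.j G.diag

theorem stabι_t : stabι G ≫ G.t = G.stabilizerToU := by
  have h := congrArg (fun φ => φ ≫ pullback.fst G.pU G.pU)
    (pullback.condition (f := G.j) (g := G.diag))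
  simp only [Category.assoc] at h
  rw [GroupoidSp.j, GroupoidSp.diag, pullback.lift_fst, pullback.lift_fst,
    Category.comp_id] at h
  exact h

theorem stabι_s : stabι G ≫ G.s = G.stabilizerToU := by
  have h := congrArg (fun φ => φ ≫ pullback.snd G.pU G.pU)
    (pullback.condition (f := G.j) (g := G.diag))
  simp only [Category.assoc] at h
  rw [GroupoidSp.j, GroupoidSp.diag, pullback.lift_snd, pullback.lift_snd,
    Category.comp_id] at h
  exact h

/-- a `T`-point of the stabilizer from an arrow with equal source and target -/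
noncomputable def stabLift {T : Sp S} (γ : T ⟶ G.R) (hst : γ ≫ G.s = γ ≫ G.t) :
    T ⟶ G.stabilizer :=
  pullback.lift γ (γ ≫ G.t) (by
    apply pullback.hom_ext
    · rw [Category.assoc, Category.assoc, GroupoidSp.j, GroupoidSp.diag,
        pullback.lift_fst, pullback.lift_fst, Category.comp_id]
    · rw [Category.assoc, Category.assoc, GroupoidSp.j, GroupoidSp.diag,
        pullback.lift_snd, pullback.lift_snd, Category.comp_id, hst])

theorem stabLift_ι {T : Sp S} (γ : T ⟶ G.R) (hst : γ ≫ G.s = γ ≫ G.t) :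
    stabLift G γ hst ≫ stabι G = γ := pullback.lift_fst _ _ _

theorem stabLift_toU {T : Sp S} (γ : T ⟶ G.R) (hst : γ ≫ G.s = γ ≫ G.t) :
    stabLift G γ hst ≫ G.stabilizerToU = γ ≫ G.t := pullback.lift_snd _ _ _

theorem stab_hom_ext {T : Sp S} (x y : T ⟶ G.stabilizer) (h : x ≫ stabι G = y ≫ stabι G) :
    x = y := by
  apply pullback.hom_ext
  · exact h
  · show x ≫ G.stabilizerToU = y ≫ G.stabilizerToU
    rw [← stabι_t, ← Category.assoc, h, Category.assoc]

/-! ### conjugation -/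

section Conj

/-- `(g, r) ↦ (r⁻¹ ∘ g) ∘ r` on `G ×_{U,t} R` -/
noncomputable def conj : pullback G.stabilizerToU G.t ⟶ G.R :=
  cmp G (cmp G (pullback.snd G.stabilizerToU G.t ≫ G.i)
      (pullback.fst G.stabilizerToU G.t ≫ stabι G)
      (by rw [Category.assoc, G.i_s, Category.assoc, stabι_t, pullback.condition]))
    (pullback.snd G.stabilizerToU G.t)
    (by rw [cmp_s, Category.assoc, stabι_s, pullback.condition])

theorem conj_s : conj G ≫ G.s = pullback.snd G.stabilizerToU G.t ≫ G.s := by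
  unfold conj; rw [cmp_s]

theorem conj_t : conj G ≫ G.t = pullback.snd G.stabilizerToU G.t ≫ G.s := by
  unfold conj; rw [cmp_t, cmp_t, Category.assoc, G.i_t]

/-- `(h, r) ↦ r ∘ (h ∘ r⁻¹)` on `G ×_{U,s} R` -/
noncomputable def conj' : pullback G.stabilizerToU G.s ⟶ G.R :=
  cmp G (pullback.snd G.stabilizerToU G.s)
    (cmp G (pullback.fst G.stabilizerToU G.s ≫ stabι G)
      (pullback.snd G.stabilizerToU G.s ≫ G.i)
      (by rw [Category.assoc, stabι_s, pullback.condition, Category.assoc, G.i_t]))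
    (by rw [cmp_t, Category.assoc, stabι_t, pullback.condition])

theorem conj'_t : conj' G ≫ G.t = pullback.snd G.stabilizerToU G.s ≫ G.t := by
  unfold conj'; rw [cmp_t]

theorem conj'_s : conj' G ≫ G.s = pullback.snd G.stabilizerToU G.s ≫ G.t := by
  unfold conj'; rw [cmp_s, cmp_s, Category.assoc, G.i_s]

noncomputable def conjHom : pullback G.stabilizerToU G.t ⟶ pullback G.stabilizerToU G.s :=
  pullback.lift (stabLift G (conj G) ((conj_s G).trans (conj_t G).symm))
    (pullback.snd G.stabilizerToU G.t) (by rw [stabLift_toU, conj_t])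

noncomputable def conjInv : pullback G.stabilizerToU G.s ⟶ pullback G.stabilizerToU G.t :=
  pullback.lift (stabLift G (conj' G) ((conj'_s G).trans (conj'_t G).symm))
    (pullback.snd G.stabilizerToU G.s) (by rw [stabLift_toU, conj'_t])

theorem conjHom_snd : conjHom G ≫ pullback.snd G.stabilizerToU G.s =
    pullback.snd G.stabilizerToU G.t := pullback.lift_snd _ _ _

theorem conjInv_snd : conjInv G ≫ pullback.snd G.stabilizerToU G.t =
    pullback.snd G.stabilizerToU G.s := pullback.lift_snd _ _ _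

theorem conjHom_fst_ι : conjHom G ≫ pullback.fst G.stabilizerToU G.s ≫ stabι G = conj G := by
  rw [← Category.assoc, conjHom, pullback.lift_fst, stabLift_ι]

theorem conjInv_fst_ι : conjInv G ≫ pullback.fst G.stabilizerToU G.t ≫ stabι G = conj' G := by
  rw [← Category.assoc, conjInv, pullback.lift_fst, stabLift_ι]

theorem conjHom_conj' : conjHom G ≫ conj' G = pullback.fst G.stabilizerToU G.t ≫ stabι G := by
  unfold conj'
  refine (precomp_cmp G _ _ _ _).trans ?_
  have e1 : conjHom G ≫ pullback.snd G.stabilizerToU G.s = pullback.snd G.stabilizerToU G.t :=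
    conjHom_snd G
  have e2 : conjHom G ≫ pullback.fst G.stabilizerToU G.s ≫ stabι G = conj G := conjHom_fst_ι G
  have e3 : conjHom G ≫ pullback.snd G.stabilizerToU G.s ≫ G.i =
      pullback.snd G.stabilizerToU G.t ≫ G.i := by rw [← Category.assoc, e1]
  refine (cmp_congr G _ e1 ((precomp_cmp G _ _ _ _).trans (cmp_congr G _ e2 e3))).trans ?_
  -- r ∘ (((r⁻¹ ∘ γ) ∘ r) ∘ r⁻¹)
  have hA : (pullback.snd G.stabilizerToU G.t ≫ G.i) ≫ G.s =
      (pullback.fst G.stabilizerToU G.t ≫ stabι G) ≫ G.t := by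
    rw [Category.assoc, G.i_s, Category.assoc, stabι_t, pullback.condition]
  have hB : cmp G (pullback.snd G.stabilizerToU G.t ≫ G.i)
      (pullback.fst G.stabilizerToU G.t ≫ stabι G) hA ≫ G.s =
      pullback.snd G.stabilizerToU G.t ≫ G.t := by
    rw [cmp_s, Category.assoc, stabι_s, pullback.condition]
  have hC : cmp G (cmp G (pullback.snd G.stabilizerToU G.t ≫ G.i)
      (pullback.fst G.stabilizerToU G.t ≫ stabι G) hA) (pullback.snd G.stabilizerToU G.t) hB ≫ G.s =
      (pullback.snd G.stabilizerToU G.t ≫ G.i) ≫ G.t := by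
    rw [cmp_s, Category.assoc, G.i_t]
  have r1 := cancel_R1 G (pullback.snd G.stabilizerToU G.t)
    (cmp G (pullback.snd G.stabilizerToU G.t ≫ G.i)
      (pullback.fst G.stabilizerToU G.t ≫ stabι G) hA) hB hC
  refine (cmp_congr G _ rfl r1).trans ?_
  exact cancel_L1 G _ _ hA _

theorem conjInv_conj : conjInv G ≫ conj G = pullback.fst G.stabilizerToU G.s ≫ stabι G := by
  unfold conj
  refine (precomp_cmp G _ _ _ _).trans ?_
  have e1 : conjInv G ≫ pullback.snd G.stabilizerToU G.t = pullback.snd G.stabilizerToU G.s :=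
    conjInv_snd G
  have e2 : conjInv G ≫ pullback.fst G.stabilizerToU G.t ≫ stabι G = conj' G := conjInv_fst_ι G
  have e3 : conjInv G ≫ pullback.snd G.stabilizerToU G.t ≫ G.i =
      pullback.snd G.stabilizerToU G.s ≫ G.i := by rw [← Category.assoc, e1]
  refine (cmp_congr G _ ((precomp_cmp G _ _ _ _).trans (cmp_congr G _ e3 e2)) e1).trans ?_
  -- (r⁻¹ ∘ (r ∘ (η ∘ r⁻¹))) ∘ r
  have hA : (pullback.fst G.stabilizerToU G.s ≫ stabι G) ≫ G.s =
      (pullback.snd G.stabilizerToU G.s ≫ G.i) ≫ G.t := by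
    rw [Category.assoc, stabι_s, pullback.condition, Category.assoc, G.i_t]
  have hB : pullback.snd G.stabilizerToU G.s ≫ G.s =
      cmp G (pullback.fst G.stabilizerToU G.s ≫ stabι G)
        (pullback.snd G.stabilizerToU G.s ≫ G.i) hA ≫ G.t := by
    rw [cmp_t, Category.assoc, stabι_t, pullback.condition]
  have hC : (pullback.snd G.stabilizerToU G.s ≫ G.i) ≫ G.s =
      cmp G (pullback.snd G.stabilizerToU G.s)
        (cmp G (pullback.fst G.stabilizerToU G.s ≫ stabι G)
          (pullback.snd G.stabilizerToU G.s ≫ G.i) hA) hB ≫ G.t := by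
    rw [cmp_t, Category.assoc, G.i_s]
  have r1 := cancel_L2 G (pullback.snd G.stabilizerToU G.s)
    (cmp G (pullback.fst G.stabilizerToU G.s ≫ stabι G)
      (pullback.snd G.stabilizerToU G.s ≫ G.i) hA) hB hC
  refine (cmp_congr G _ r1 rfl).trans ?_
  exact cancel_R2 G _ _ hA _

theorem conjHom_inv : conjHom G ≫ conjInv G = 𝟙 _ := by
  apply pullback.hom_ext
  · apply stab_hom_ext
    rw [Category.assoc, Category.assoc, conjInv_fst_ι, conjHom_conj', Category.id_comp]
  · rw [Category.assoc, conjInv_snd, conjHom_snd, Category.id_comp]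

theorem conjInv_hom : conjInv G ≫ conjHom G = 𝟙 _ := by
  apply pullback.hom_ext
  · apply stab_hom_ext
    rw [Category.assoc, Category.assoc, conjHom_fst_ι, conjInv_conj, Category.id_comp]
  · rw [Category.assoc, conjHom_snd, conjInv_snd, Category.id_comp]

/-- `G ×_{U,t} R ≅ G ×_{U,s} R` over `R`. -/
noncomputable def conjIso : pullback G.stabilizerToU G.t ≅ pullback G.stabilizerToU G.s where
  hom := conjHom G
  inv := conjInv G
  hom_inv_id := conjHom_inv G
  inv_hom_id := conjInv_hom G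

theorem isPullback_conj : IsPullback (conjHom G ≫ pullback.fst G.stabilizerToU G.s)
    (pullback.snd G.stabilizerToU G.t) G.stabilizerToU G.s := by
  refine IsPullback.of_iso_pullback ⟨?_⟩ (conjIso G) rfl (conjHom_snd G)
  rw [Category.assoc, pullback.condition, ← Category.assoc, conjHom_snd]

end Conj

end Groth.Agent.Helper19.GpdInv
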