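import Mathlib
import Groth.Prelude
import Groth.Agent.Lib.Helper16.AlgSp.LargestOpen
import Groth.Agent.Lib.Helper15.GpdSp

/-!
# Invariance of the largest open subspace over which a base change has a local property (helper19)
-/

set_option autoImplicit false

universe u

open CategoryTheory CategoryTheory.Limits AlgebraicGeometry Opposite TopologicalSpace

namespace Groth.Agent.Helper19.GpdInv

open AlgSp Groth.Agent.Helper15 Groth.Agent.Helper16.AS

variable {S : Scheme.{u}} {B : Sp S} (G : GroupoidSp B)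

/-- The square `(α, β) ↦ (α ∘ β, β)` exhibits `R ×_{s,U,t} R` as `R ×_{s,U,s} R`. -/
theorem isPullback_c_snd : IsPullback G.c (pullback.snd G.s G.t) G.s G.s := by
  have w : G.c ≫ G.s = pullback.snd G.s G.t ≫ G.s := by rw [c_eq_gcomp, gcomp_s]
  refine ⟨⟨w⟩, ⟨PullbackCone.IsLimit.mk w
    (fun c => pullback.lift (gcomp G c.fst (c.snd ≫ G.i)
      (by rw [Category.assoc, G.i_t, c.condition])) c.snd
      (by rw [gcomp_s, Category.assoc, G.i_s])) ?_ ?_ ?_⟩⟩
  · intro c
    rw [comp_c_eq]
    rw [gcomp_congr G _ (pullback.lift_fst _ _ _) (pullback.lift_snd _ _ _)]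
    exact gcomp_i_gcomp G c.fst c.snd c.condition
  · intro c
    exact pullback.lift_snd _ _ _
  · intro c m hm1 hm2
    apply pullback.hom_ext
    · rw [pullback.lift_fst]
      have h0 : (m ≫ pullback.fst G.s G.t) ≫ G.s = c.snd ≫ G.t := by
        rw [Category.assoc, pullback.condition, ← Category.assoc, hm2]
      have h1 : c.fst = gcomp G (m ≫ pullback.fst G.s G.t) c.snd h0 := by
        rw [← hm1, comp_c_eq]
        exact gcomp_congr G _ rfl hm2
      rw [gcomp_congr G _ h1 rfl]
      exact (gcomp_gcomp_i G (m ≫ pullback.fst G.s G.t) c.snd h0).symm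
    · rw [pullback.lift_snd, hm2]

section Main

variable {C : MorphismProperty (Sp S)} (hC : OpenClass C) {P : MorphismProperty (Sp S)}
  (hP : IsLocalOnBase (fun _ _ Y g => IsCover C Y g) P)

include hC hP

/-- If the base changes of `f : X ⟶ U` along `s` and `t` agree, the largest open of `U` over which
`f` has `P` is invariant. -/
theorem isInvariant_of_two_squares (hU : IsAlgSpace G.U) (hR : IsAlgSpace G.R)
    (hs : C G.s) (ht : C G.t) {X X' : Sp S} (hX : IsAlgSpace X) (hX' : IsAlgSpace X')
    (f : X ⟶ G.U) (f' : X' ⟶ G.R) (a b : X' ⟶ X)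
    (sqs : IsPullback a f' f G.s) (sqt : IsPullback b f' f G.t)
    {W : Sp S} (hWsp : IsAlgSpace W) (w : W ⟶ G.U) (hw : RepWith @IsOpenImmersion w)
    (hmax : ∀ (W' : Sp S) (w' : W' ⟶ G.U), IsAlgSpace W' → RepWith @IsOpenImmersion w' →
      (P (pullback.snd f w') ↔ ∃ k : W' ⟶ W, k ≫ w = w')) :
    G.IsInvariant w := by
  obtain ⟨W₀, hA, hB, hCC, hD⟩ := exists_largest_open hC hP hX hU f
  obtain ⟨W', hA', hB', -, -⟩ := exists_largest_open hC hP hX' hR f'
  have ht' : (W' : Set (Points G.R)) = Points.map G.t ⁻¹' (W₀ : Set (Points G.U)) :=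
    hD G.R X' G.t b f' hR hX' ht sqt W' hA' hB'
  have hs' : (W' : Set (Points G.R)) = Points.map G.s ⁻¹' (W₀ : Set (Points G.U)) :=
    hD G.R X' G.s a f' hR hX' hs sqs W' hA' hB'
  -- the given open is the largest one
  have hrange : Set.range (Points.map w) = (W₀ : Set (Points G.U)) := by
    apply Set.Subset.antisymm
    · exact hCC W (pullback f w) w (pullback.fst f w) (pullback.snd f w) hWsp
        (isAlgSpace_pullback hX hU hWsp f w) (hC.of_open w hw) (IsPullback.of_hasPullback f w)
        ((hmax W w hWsp hw).2 ⟨𝟙 W, Category.id_comp w⟩)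
    · obtain ⟨W₁, j₁, hW₁, hj₁, hr₁⟩ := exists_open_subspace_of_isOpen hU
        (W₀ : Set (Points G.U)) W₀.isOpen
      have h1 : P (pullback.snd f j₁) :=
        hA W₁ (pullback f j₁) j₁ (pullback.fst f j₁) (pullback.snd f j₁) hW₁
          (isAlgSpace_pullback hX hU hW₁ f j₁) hj₁ hr₁ (IsPullback.of_hasPullback f j₁)
      obtain ⟨k, hk⟩ := (hmax W₁ j₁ hW₁ hj₁).1 h1
      rw [← hr₁, ← hk, range_points_map_comp]
      exact Set.image_subset_range _ _
  intro T r
  rw [factors_through_open_iff w hw (r ≫ G.t), factors_through_open_iff w hw (r ≫ G.s), hrange,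
    range_points_map_comp, range_points_map_comp, Set.image_subset_iff, Set.image_subset_iff,
    ← ht', ← hs']

end Main

end Groth.Agent.Helper19.GpdInv
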