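import Mathlib
import Groth.Prelude
import Groth.Agent.Lib.Helper19.GpdInv.Main
import Groth.Agent.Lib.Helper19.GpdInv.Conj

/-!
# Invariance of the largest open over which the stabilizer has a local property (helper19)
-/

set_option autoImplicit false

universe u

open CategoryTheory CategoryTheory.Limits AlgebraicGeometry Opposite TopologicalSpace

namespace Groth.Agent.Helper19.GpdInv

open AlgSp Groth.Agent.Helper15 Groth.Agent.Helper16.AS

variable {S : Scheme.{u}} {B : Sp S} (G : GroupoidSp B)

theorem isAlgSpace_stabilizer (hB : IsAlgSpace B) (hU : IsAlgSpace G.U) (hR : IsAlgSpace G.R) :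
    IsAlgSpace G.stabilizer :=
  isAlgSpace_pullback hR (isAlgSpace_pullback hU hB hU G.pU G.pU) hU G.j G.diag

theorem isInvariant_stabilizer {C : MorphismProperty (Sp S)} (hC : OpenClass C)
    {P : MorphismProperty (Sp S)} (hP : IsLocalOnBase (fun _ _ Y g => IsCover C Y g) P)
    (hB : IsAlgSpace B) (hU : IsAlgSpace G.U) (hR : IsAlgSpace G.R)
    (hs : C G.s) (ht : C G.t)
    {W : Sp S} (hWsp : IsAlgSpace W) (w : W ⟶ G.U) (hw : RepWith @IsOpenImmersion w)
    (hmax : ∀ (W' : Sp S) (w' : W' ⟶ G.U), IsAlgSpace W' → RepWith @IsOpenImmersion w' →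
      (P (pullback.snd G.stabilizerToU w') ↔ ∃ k : W' ⟶ W, k ≫ w = w')) :
    G.IsInvariant w :=
  isInvariant_of_two_squares G hC hP hU hR hs ht (isAlgSpace_stabilizer G hB hU hR)
    (isAlgSpace_pullback (isAlgSpace_stabilizer G hB hU hR) hU hR G.stabilizerToU G.t)
    G.stabilizerToU (pullback.snd G.stabilizerToU G.t)
    (conjHom G ≫ pullback.fst G.stabilizerToU G.s) (pullback.fst G.stabilizerToU G.t)
    (isPullback_conj G) (IsPullback.of_hasPullback _ _) hWsp w hw hmax

end Groth.Agent.Helper19.GpdInv
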